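import Cfsg.Agent.H89.Gen.Largest
import Cfsg.Agent.H49.Invariant
import Cfsg.Agent.H91.CentFocal.Fix

/-!
The maps between subgroups of a strongly closed `Y` centralizing a strongly closed `T`: the setup of the
generated normal subsystem over `Y`.
-/

set_option autoImplicit false
set_option linter.style.haveILetI false
set_option linter.unusedSectionVars false

namespace Cfsg.Agent.H89.CentE

open Cfsg Cfsg.FusionSystem Cfsg.Agent.FusionSys Cfsg.Agent.H91.CentFocal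
open Cfsg.Agent.H91 (centSys)
open Cfsg.Agent.H89.Gen (InH)
open Cfsg.Agent.H89.Lift (tw tw_apply isMap_subSys)
open Cfsg.Agent.H48 (IsSylowIn)
open Cfsg.FusionSystem (centralizerIn normalizerIn)
open scoped commutatorElement

variable {Ω : Type*} [Group Ω] {S T Y : Subgroup Ω} {F : FusionSystem S} {p : ℕ}

theorem le_normalizerIn_of_centralizes {P : Subgroup Ω} (hT : T ≤ S)
    (hP : P ≤ centralizerIn S T) : T ≤ normalizerIn S P := fun t ht =>
  centralizerIn_le_normalizerIn (FusionSys.mem_centralizerIn.2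
    ⟨hT ht, fun _ hy => ((FusionSys.mem_centralizerIn.1 (hP hy)).2 t ht).symm⟩)

theorem image_closed [Finite S] (hT : F.StronglyClosed T) {R : Subgroup Ω} {g : Ω → Ω}
    (hg : IsMap F R g) (hTR : T ≤ R) : g '' (T : Set Ω) = T :=
  haveI : Finite T := finite_of_le hT.1
  (hg.mono hTR).image_eq_of_mapsTo fun x hx =>
    (stronglyClosed_iff.1 hT).2 T g le_rfl (hg.mono hTR) x hx

/-- Every map between subgroups centralizing a strongly closed `T` extends over `T`. -/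
theorem ext_T [Finite S] [Fact p.Prime] (hS : IsPGroup p S) (hF : F.IsSaturated p)
    (hT : F.StronglyClosed T) {P : Subgroup Ω} {f : Ω → Ω} (hP : P ≤ centralizerIn S T)
    (hf : IsMap F P f) (hfv : ∀ x ∈ P, f x ∈ centralizerIn S T) :
    ∃ g, IsMap F (P ⊔ T) g ∧ (∀ x ∈ P, g x = f x) ∧ ∀ t ∈ T, g t ∈ T := by
  have hTS := hT.1
  obtain ⟨Q, hPQ, hQn⟩ := exists_isFullyNormalized F hf.le
  have hfi := hf.isIso
  have hR : imgSub f P ≤ centralizerIn S T := fun y hy => by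
    obtain ⟨x, hx, rfl⟩ := hf.mem_imgSub.1 hy; exact hfv x hx
  obtain ⟨u, hu, hui, -⟩ := exists_map_to_fullyNormalized hS hF hQn hPQ
  obtain ⟨v, hv, hvi, -⟩ := exists_map_to_fullyNormalized hS hF hQn
    (isConj_trans (isConj_symm hfi.isConj) hPQ)
  obtain ⟨u', hu', hu'u, -⟩ := hui.exists_symm
  obtain ⟨γ, hγ, hγe⟩ := ((hu'.comp hfi).comp hvi).exists_aut
  have hTP := le_normalizerIn_of_centralizes hTS hP
  have hTR := le_normalizerIn_of_centralizes hTS hR
  have hQT : ∀ t ∈ T, t ∈ centralizerIn S Q := fun t ht => by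
    obtain ⟨t₀, ht₀, rfl⟩ := (image_closed hT hu hTP).ge ht
    exact hui.mem_centralizerIn_of_extends hu (le_normalizerIn_self hf.le) (fun _ _ => rfl) (hTP ht₀)
      (FusionSys.mem_centralizerIn.2 ⟨hTS ht₀,
        fun y hy => ((FusionSys.mem_centralizerIn.1 (hP hy)).2 t₀ ht₀).symm⟩)
  obtain ⟨G, hG, hGe⟩ := receptive_extend (receptive_of_isFullyNormalized hS hF hQn)
    (isIso_autMap hQn.1 hγ) (N := T)
    fun t ht => (isIso_autMap hQn.1 hγ).isMap.inExt_of_centralizes (hQT t ht)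
  obtain ⟨v', hv', hv'v⟩ := (hv.mono (sup_le (le_normalizerIn_self hfi.target_le) hTR)).exists_inv
  have hle : T ⊔ Q ≤ imgSub v (imgSub f P ⊔ T) := by
    have hvm := hv.mono (sup_le (le_normalizerIn_self hfi.target_le) hTR)
    refine sup_le (fun t ht => ?_) fun q hq => ?_
    · obtain ⟨t₀, ht₀, rfl⟩ := (image_closed hT hv hTR).ge ht
      exact hvm.mem_imgSub.2 ⟨t₀, Subgroup.mem_sup_right ht₀, rfl⟩
    · obtain ⟨x, hx, rfl⟩ := hvi.exists_preimage hq
      exact hvm.mem_imgSub.2 ⟨x, Subgroup.mem_sup_left hx, rfl⟩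
  have hum : IsMap F (P ⊔ T) u := hu.mono (sup_le (le_normalizerIn_self hf.le) hTP)
  have huv : ∀ x ∈ P ⊔ T, u x ∈ T ⊔ Q := fun x hx => hum.mapsTo_sup
    (fun y hy => Subgroup.mem_sup_right (hui.mem hy))
    (fun t ht => Subgroup.mem_sup_left ((image_closed hT hu hTP).le ⟨t, ht, rfl⟩)) hx
  have hGv : ∀ x ∈ T ⊔ Q, G x ∈ T ⊔ Q := fun x hx => hG.mapsTo_sup
    (fun t ht => Subgroup.mem_sup_left ((image_closed hT hG le_sup_left).le ⟨t, ht, rfl⟩))
    (fun q hq => Subgroup.mem_sup_right ((hGe q hq).symm ▸ autMap_mem γ hq)) hx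
  have hg := (hum.comp hG huv).comp (hv'.mono hle) fun x hx => hGv _ (huv x hx)
  refine ⟨_, hg, fun x hx => ?_, fun t ht =>
    (image_closed hT hg le_sup_right).le ⟨t, ht, rfl⟩⟩
  rw [Function.comp_apply, Function.comp_apply, hGe _ (hui.mem hx), hγe _ (hui.mem hx),
    Function.comp_apply, Function.comp_apply, hu'u x hx,
    hv'v _ (Subgroup.mem_sup_left (hfi.mem hx))]

section

variable (hT : F.StronglyClosed T) (hY : F.StronglyClosed Y) (hYT : Y ≤ centralizerIn S T)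

/-- The maps of `C_F(T)` between subgroups of `Y`. -/
noncomputable def cI : FusionSystem Y :=
  FusionSys.subSys (H90.PPC.restr F hY.1) (fun P f => IsMap (centSys F hT.1) P f)
    (fun _ _ _ h he => h.congr he)
    (fun _ _ hP ha => isMap_conj (centSys F hT.1) (hP.trans hYT) (hYT ha))
    (fun _ _ _ _ _ _ hm h1 h2 => h1.comp h2 hm)
    (fun P Q f g hf _ hgf h => by
      obtain ⟨g', hg', he⟩ := h.exists_inv
      rw [← hf.eq_imgSub] at hg'
      refine hg'.congr fun y hy => ?_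
      obtain ⟨x, hx, rfl⟩ := hf.exists_preimage hy
      rw [hgf x hx, he x hx])

theorem isMap_N_sub {P : Subgroup Ω} {f : Ω → Ω} (h : IsMap (centSys F hT.1) P f) :
    IsMap F P f := by
  obtain ⟨-, -, g, hg, he, -⟩ := (isMap_centSys_iff hT.1).1 h
  exact (hg.mono le_sup_left).congr fun x hx => (he x hx).symm

theorem isMap_cI {P : Subgroup Ω} {f : Ω → Ω} :
    IsMap (cI hT hY hYT) P f ↔ P ≤ Y ∧ IsMap (centSys F hT.1) P f := by
  refine Iff.trans isMap_subSys ⟨fun h => ⟨h.1.le, h.2⟩, fun h => ⟨(Lift.isMap_restr _).2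
    ⟨isMap_N_sub hT h.2, h.1, fun x hx =>
      (stronglyClosed_iff.1 hY).2 P f h.1 (isMap_N_sub hT h.2) x hx⟩, h.2⟩⟩

theorem cI_sub : (cI hT hY hYT).IsSubsystemOf F :=
  isSubsystemOf_iff_isMap.2 fun _ _ h => isMap_N_sub hT ((isMap_cI hT hY hYT).1 h).2

theorem autGroup_cI {Q : Subgroup Ω} (hQ : Q ≤ Y) :
    (cI hT hY hYT).autGroup Q = (centSys F hT.1).autGroup Q := by
  ext α
  rw [mem_autGroup_iff hQ, mem_autGroup_iff (hQ.trans hYT), isMap_cI hT hY hYT, and_iff_right hQ]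

variable [Finite S] [Fact p.Prime]

/-- Maps of `F` transport the maps of `C_F(T)` between subgroups of `Y`. -/
theorem strongInv_cI (hS : IsPGroup p S) (hF : F.IsSaturated p) :
    H49.StrongInv F (cI hT hY hYT) := by
  intro P R f s hf hPR hR hfR hs
  obtain ⟨hP, hfN⟩ := (isMap_cI hT hY hYT).1 hf
  obtain ⟨-, -, g, hg, hge, hgT⟩ := (isMap_centSys_iff hT.1).1 hfN
  have hsY : ∀ x ∈ R, s x ∈ Y := fun x hx => (stronglyClosed_iff.1 hY).2 R s hR hs x hx
  obtain ⟨A, hA, hAe, hAT⟩ := ext_T hS hF hT (hR.trans hYT) hs fun x hx => hYT (hsY x hx)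
  have hAi := image_closed hT hA le_sup_right
  have hAm : IsMap F (P ⊔ T) A := hA.mono (sup_le_sup_right hPR T)
  obtain ⟨A', hA', hA'A⟩ := hAm.exists_inv
  have hle : imgSub s P ⊔ T ≤ imgSub A (P ⊔ T) := by
    refine sup_le (fun y hy => ?_) fun t ht => ?_
    · obtain ⟨x, hx, rfl⟩ := (hs.mono hPR).mem_imgSub.1 hy
      exact hAm.mem_imgSub.2 ⟨x, Subgroup.mem_sup_left hx, hAe x (hPR hx)⟩
    · obtain ⟨t₀, ht₀, rfl⟩ := hAi.ge ht
      exact hAm.mem_imgSub.2 ⟨t₀, Subgroup.mem_sup_right ht₀, rfl⟩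
  have hA'm : ∀ y ∈ imgSub s P ⊔ T, A' y ∈ P ⊔ T := fun y hy => by
    obtain ⟨x, hx, rfl⟩ := hAm.mem_imgSub.1 (hle hy)
    rwa [hA'A x hx]
  have hgm : ∀ y ∈ P ⊔ T, g y ∈ R ⊔ T := fun y hy => hg.mapsTo_sup
    (fun x hx => Subgroup.mem_sup_left ((hge x hx).symm ▸ hfR x hx))
    (fun t ht => Subgroup.mem_sup_right ((hgT t ht).symm ▸ ht)) hy
  have hc := ((hA'.mono hle).comp hg hA'm).comp hA fun y hy => hgm _ (hA'm y hy)
  have hval : ∀ x ∈ P, (A ∘ (g ∘ A')) (s x) = s (f x) := fun x hx => by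
    rw [Function.comp_apply, Function.comp_apply, ← hAe x (hPR hx),
      hA'A x (Subgroup.mem_sup_left hx), hge x hx, hAe _ (hfR x hx)]
  have hsP : imgSub s P ≤ Y := fun y hy => by
    obtain ⟨x, hx, rfl⟩ := (hs.mono hPR).mem_imgSub.1 hy
    exact hsY x (hPR hx)
  refine ⟨A ∘ (g ∘ A'), (isMap_cI hT hY hYT).2 ⟨hsP,
    (isMap_centSys_iff hT.1).2 ⟨hsP.trans hYT, fun y hy => ?_, _, hc, fun _ _ => rfl,
      fun t ht => ?_⟩⟩, hval⟩
  · obtain ⟨x, hx, rfl⟩ := (hs.mono hPR).mem_imgSub.1 hy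
    rw [hval x hx]
    exact hYT (hsY _ (hfR x hx))
  · obtain ⟨t₀, ht₀, rfl⟩ := hAi.ge ht
    rw [Function.comp_apply, Function.comp_apply, hA'A t₀ (Subgroup.mem_sup_right ht₀), hgT t₀ ht₀]

theorem cI_conj (hS : IsPGroup p S) (hF : F.IsSaturated p) {Q : Subgroup Ω} (hQ : Q ≤ Y)
    {γ α : MulAut Q} (hγ : γ ∈ F.autGroup Q) (hα : α ∈ (cI hT hY hYT).autGroup Q) :
    γ * α * γ⁻¹ ∈ (cI hT hY hYT).autGroup Q := by
  haveI : Finite Q := finite_of_le (hQ.trans hY.1)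
  have hγm : IsMap F Q (autMap γ) := (mem_autGroup_iff (hQ.trans hY.1)).1 hγ
  obtain ⟨c, hc, hce⟩ := strongInv_cI hT hY hYT hS hF Q Q _ _ ((mem_autGroup_iff hQ).1 hα) le_rfl hQ
    (fun x hx => autMap_mem _ hx) hγm
  refine (mem_autGroup_iff hQ).2 ((hc.mono fun y hy => hγm.mem_imgSub.2
    ⟨_, autMap_mem γ⁻¹ hy, autMap_inv_apply γ hy⟩).congr fun y hy => ?_)
  have h1 := hce _ (autMap_mem γ⁻¹ hy)
  rw [autMap_inv_apply γ hy] at h1
  rw [h1, autMap_mul _ _ hy, autMap_mul _ _ (autMap_mem _ hy)]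

theorem cI_tw (hS : IsPGroup p S) (hF : F.IsSaturated p) {a : MulAut Y} (ha : a ∈ F.autGroup Y)
    {P : Subgroup Ω} {f : Ω → Ω} (hf : IsMap (cI hT hY hYT) P f) :
    IsMap (cI hT hY hYT) (imgSub (autMap a) P) (tw a f) := by
  have ham : IsMap F Y (autMap a) := (mem_autGroup_iff hY.1).1 ha
  obtain ⟨c, hc, hce⟩ := strongInv_cI hT hY hYT hS hF P Y f _ hf hf.le le_rfl
    (fun x hx => hf.mem_S hx) ham
  refine hc.congr fun y hy => ?_
  obtain ⟨x, hx, rfl⟩ := (ham.mono hf.le).mem_imgSub.1 hy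
  rw [hce x hx, tw_apply a f (hf.le hx)]

include hT in
/-- `Q T` is fully centralized for a fully normalized `Q ≤ Y`. -/
theorem fullyCentralized_sup (hS : IsPGroup p S) (hF : F.IsSaturated p) {Q : Subgroup Ω}
    (hQ : Q ≤ centralizerIn S T) (hQn : F.IsFullyNormalized Q) :
    F.IsFullyCentralized (Q ⊔ T) := by
  refine ⟨sup_le hQn.1 hT.1, fun R hR => ?_⟩
  obtain ⟨k, hk⟩ := isConj_iff.1 hR
  have hkQ := (hk.isMap.mono (le_sup_left : Q ≤ Q ⊔ T)).isIso
  obtain ⟨g, hg, hgi, -⟩ := exists_map_to_fullyNormalized hS hF hQn (isConj_symm hkQ.isConj)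
  have hTR : T ≤ R := fun t ht => by
    obtain ⟨t₀, ht₀, rfl⟩ := (image_closed hT hk.isMap le_sup_right).ge ht
    exact hk.mem (Subgroup.mem_sup_right ht₀)
  have hQR : imgSub k Q ≤ R := fun y hy => by
    obtain ⟨x, hx, rfl⟩ := hkQ.exists_preimage hy
    exact hk.mem (Subgroup.mem_sup_left hx)
  have hTN : T ≤ normalizerIn S (imgSub k Q) := fun t ht => by
    obtain ⟨t₀, ht₀, rfl⟩ := (image_closed hT hk.isMap le_sup_right).ge ht
    exact centralizerIn_le_normalizerIn (hkQ.mem_centralizerIn_of_extends hk.isMap le_sup_left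
      (fun _ _ => rfl) (Subgroup.mem_sup_right ht₀) (FusionSys.mem_centralizerIn.2
        ⟨hT.1 ht₀, fun y hy => ((FusionSys.mem_centralizerIn.1 (hQ hy)).2 t₀ ht₀).symm⟩))
  have hCN : centralizerIn S R ≤ normalizerIn S (imgSub k Q) := fun c hc =>
    centralizerIn_le_normalizerIn (FusionSys.mem_centralizerIn.2
      ⟨centralizerIn_le hc, fun y hy => (FusionSys.mem_centralizerIn.1 hc).2 y (hQR hy)⟩)
  have hi := (hg.mono hCN).isIso
  rw [hi.card_eq]
  haveI : Finite (centralizerIn S (Q ⊔ T)) := finite_of_le (S := S) centralizerIn_le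
  refine Subgroup.card_le_of_le fun y hy => ?_
  obtain ⟨c, hc, rfl⟩ := hi.exists_preimage hy
  obtain ⟨hcS, hcR⟩ := FusionSys.mem_centralizerIn.1 hc
  refine FusionSys.mem_centralizerIn.2 ⟨hg.mem_S (hCN hc), fun z hz => ?_⟩
  have key : Q ⊔ T ≤ Subgroup.centralizer ({g c} : Set Ω) := by
    refine sup_le (fun q hq => ?_) fun t ht => ?_
    · obtain ⟨x, hx, rfl⟩ := hgi.exists_preimage hq
      rw [Subgroup.mem_centralizer_singleton_iff, ← hg.map_mul (le_normalizerIn_self hkQ.target_le hx)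
        (hCN hc), ← hg.map_mul (hCN hc) (le_normalizerIn_self hkQ.target_le hx), hcR x (hQR hx)]
    · obtain ⟨x, hx, rfl⟩ := (image_closed hT hg hTN).ge ht
      rw [Subgroup.mem_centralizer_singleton_iff, ← hg.map_mul (hTN hx)
        (hCN hc), ← hg.map_mul (hCN hc) (hTN hx), hcR x (hTR hx)]
  exact Subgroup.mem_centralizer_singleton_iff.1 (key hz)

/-- The extension condition. -/
theorem cI_ext (hS : IsPGroup p S) (hF : F.IsSaturated p) {Q N : Subgroup Ω} (hQ : InH F Y Q)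
    (hQn : F.IsFullyNormalized Q) (hQN : Q ≤ N) (hN : N ≤ normalizerIn Y Q)
    {G : MulAut N} {x : MulAut Q} (hG : G ∈ F.autGroup N) (hGp : (orderOf G).Coprime p)
    (hx : x ∈ (cI hT hY hYT).autGroup Q) (hGx : ∀ q ∈ Q, autMap G q = autMap x q) :
    G ∈ (cI hT hY hYT).autGroup N := by
  have hNY : N ≤ Y := hN.trans normalizerIn_le
  have hNS : N ≤ S := hNY.trans hY.1
  have hQS := hQn.1
  haveI : Finite N := finite_of_le hNS
  haveI : Finite Q := finite_of_le hQS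
  obtain ⟨-, -, x', hx', hx'e, hx'T⟩ :=
    (isMap_centSys_iff hT.1).1 ((isMap_cI hT hY hYT).1 ((mem_autGroup_iff hQ.1).1 hx)).2
  have hx'm : ∀ y ∈ Q ⊔ T, x' y ∈ Q ⊔ T := fun y hy => hx'.mapsTo_sup
    (fun z hz => Subgroup.mem_sup_left ((hx'e z hz).symm ▸ autMap_mem x hz))
    (fun z hz => Subgroup.mem_sup_right ((hx'T z hz).symm ▸ hz)) hy
  haveI : Finite (Q ⊔ T : Subgroup Ω) := finite_of_le hx'.le
  have hGm : IsMap F N (autMap G) := (mem_autGroup_iff hNS).1 hG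
  have hnT : ∀ n ∈ N, ∀ t ∈ T, n * t * n⁻¹ = t := fun n hn t ht => by
    rw [← (FusionSys.mem_centralizerIn.1 (hYT (hNY hn))).2 t ht, mul_inv_cancel_right]
  have hnQ : ∀ n ∈ N, ∀ q ∈ Q, n * q * n⁻¹ ∈ Q := fun n hn q hq =>
    (Subgroup.mem_normalizer_iff.1 (hN hn).2 q).1 hq
  have hext : ∀ n ∈ N, InExt S (Q ⊔ T) x' n := by
    intro n hn
    have hn' : autMap G n ∈ N := autMap_mem G hn
    have hcn : ∀ {m : Ω}, m ∈ N → ∀ y ∈ Q ⊔ T, conjMap m y ∈ Q ⊔ T := fun {m} hm y hy =>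
      (isMap_conj F hx'.le (hNS hm)).mapsTo_sup
        (fun q hq => Subgroup.mem_sup_left (hnQ m hm q hq))
        (fun t ht => Subgroup.mem_sup_right (by rw [conjMap_apply, hnT m hm t ht]; exact ht)) hy
    refine ⟨hNS hn, mem_normalizer_of_maps (hcn hn), autMap G n, hNS hn', fun y hy => ?_⟩
    have h1 : IsMap F (Q ⊔ T) (x' ∘ conjMap n) :=
      (isMap_conj F hx'.le (hNS hn)).comp hx' (hcn hn)
    have h2 : IsMap F (Q ⊔ T) (conjMap (autMap G n) ∘ x') :=
      hx'.comp (isMap_conj F hx'.le (hNS hn')) hx'm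
    refine h1.eqOn_sup h2 (fun q hq => ?_) (fun t ht => ?_) hy
    · simp only [Function.comp_apply, conjMap_apply]
      rw [hx'e _ (hnQ n hn q hq), ← hGx _ (hnQ n hn q hq), hx'e q hq, ← hGx q hq,
        hGm.map_conj hn (hQN hq)]
    · simp only [Function.comp_apply, conjMap_apply]
      rw [hnT n hn t ht, hx'T t ht, hnT _ hn' t ht]
  obtain ⟨h, hh, hhe⟩ := receptive_extend (receptive_of_isFullyCentralized hS hF
    (fullyCentralized_sup hT hS hF (hQ.1.trans hYT) hQn)) (isIso_of_mapsTo hx' hx'm) hext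
  have hhQ : ∀ q ∈ Q, h q = autMap x q := fun q hq => by
    rw [hhe q (Subgroup.mem_sup_left hq), hx'e q hq]
  have hhn : ∀ n ∈ N, h n ∈ N := by
    intro n hn
    have hn' : autMap G n ∈ N := autMap_mem G hn
    have hhY : h n ∈ Y := (stronglyClosed_iff.1 hY).2 N h hNY (hh.mono le_sup_left) n hn
    have hd : (autMap G n)⁻¹ * h n ∈ Q := hQ.2 Q (isConj_refl F hQS) (FusionSys.mem_centralizerIn.2
      ⟨Y.mul_mem (Y.inv_mem (hNY hn')) hhY, fun q hq => ?_⟩)
    · have := N.mul_mem hn' (hQN hd)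
      rwa [mul_inv_cancel_left] at this
    · obtain ⟨q₀, hq₀, rfl⟩ : ∃ q₀ ∈ Q, autMap x q₀ = q :=
        ⟨_, autMap_mem _ hq, autMap_inv_apply x hq⟩
      have e1 := hh.map_conj (Subgroup.mem_sup_left hn)
        (Subgroup.mem_sup_right (Subgroup.mem_sup_left hq₀))
      rw [hhQ _ (hnQ n hn q₀ hq₀), hhQ _ hq₀, ← hGx _ (hnQ n hn q₀ hq₀),
        hGm.map_conj hn (hQN hq₀), hGx q₀ hq₀] at e1
      calc autMap x q₀ * ((autMap G n)⁻¹ * h n)
          = (autMap G n)⁻¹ * (autMap G n * autMap x q₀ * (autMap G n)⁻¹) * h n := by group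
        _ = _ := by rw [e1]; group
  obtain ⟨η, hη, hηe⟩ := (isIso_of_mapsTo (hh.mono (le_sup_left : N ≤ N ⊔ (Q ⊔ T))) hhn).exists_aut
  have hηI : η ∈ (cI hT hY hYT).autGroup N := by
    refine (mem_autGroup_iff hNY).2 ((isMap_cI hT hY hYT).2 ⟨hNY, (isMap_centSys_iff hT.1).2
      ⟨hNY.trans hYT, fun n hn => hYT (hNY (autMap_mem η hn)), h,
        hh.mono (sup_le_sup_left le_sup_right N), fun n hn => (hηe n hn).symm, fun t ht => ?_⟩⟩)
    rw [hhe t (Subgroup.mem_sup_right ht), hx'T t ht]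
  set a := η⁻¹ * G with ha
  have haF : a ∈ F.autGroup N := mul_mem (inv_mem hη) hG
  have ham : IsMap F N (autMap a) := (mem_autGroup_iff hNS).1 haF
  have haQ : ∀ q ∈ Q, autMap a q = q := fun q hq => by
    rw [ha, autMap_mul _ _ (hQN hq), hGx q hq, ← hhQ q hq, ← hηe q (hQN hq),
      S5114.inv_autMap_apply η (hQN hq)]
  have hamod : ∀ n ∈ N, n⁻¹ * autMap a n ∈ Q := by
    intro n hn
    refine hQ.2 Q (isConj_refl F hQS) (FusionSys.mem_centralizerIn.2
      ⟨Y.mul_mem (Y.inv_mem (hNY hn)) (hNY (autMap_mem a hn)), fun q hq => ?_⟩)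
    have e := ham.map_conj hn (hQN hq)
    rw [haQ _ (hnQ n hn q hq), haQ q hq] at e
    calc q * (n⁻¹ * autMap a n) = n⁻¹ * (n * q * n⁻¹) * autMap a n := by group
      _ = _ := by rw [e]; group
  obtain ⟨m, hm⟩ := IsPGroup.iff_card.1 (hS.to_le hQS)
  have hap : a ^ p ^ m = 1 := aut_ext fun n hn => by
    have key : ∀ j : ℕ, autMap (a ^ j) n = n * (n⁻¹ * autMap a n) ^ j := by
      intro j
      induction j with
      | zero => rw [pow_zero, pow_zero, FusionSys.autMap_one hn, mul_one]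
      | succ j ih =>
        have hd := Q.pow_mem (hamod n hn) j
        rw [pow_succ', autMap_mul _ _ hn, ih, ham.map_mul hn (hQN hd), haQ _ hd, pow_succ',
          ← mul_assoc n, mul_inv_cancel_left]
    rw [key, FusionSys.autMap_one hn, ← hm,
      show (n⁻¹ * autMap a n) ^ Nat.card Q = 1 from
        congrArg Subtype.val (pow_card_eq_one' (x := (⟨_, hamod n hn⟩ : Q))), mul_one]
  haveI hn : (((cI hT hY hYT).autGroup N).subgroupOf (F.autGroup N)).Normal :=
    ⟨fun _ hk g => cI_conj hT hY hYT hS hF hNY g.2 hk⟩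
  set K := ((cI hT hY hYT).autGroup N).subgroupOf (F.autGroup N)
  have hGK : (⟨G, hG⟩ : F.autGroup N) ^ p ^ m ∈ K := by
    have hηK : (⟨η, hη⟩ : F.autGroup N) ∈ K := hηI
    rw [show (⟨G, hG⟩ : F.autGroup N) = ⟨η, hη⟩ * ⟨a, haF⟩ from
      Subtype.ext (by show G = η * a; rw [ha, mul_inv_cancel_left]), ← QuotientGroup.eq_one_iff,
      QuotientGroup.mk_pow, QuotientGroup.mk_mul, (QuotientGroup.eq_one_iff _).2 hηK, one_mul,
      ← QuotientGroup.mk_pow,
      show (⟨a, haF⟩ : F.autGroup N) ^ p ^ m = 1 from Subtype.ext hap, QuotientGroup.mk_one]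
  obtain ⟨j, hj⟩ := exists_pow_eq_self_of_coprime (x := (⟨G, hG⟩ : F.autGroup N))
    (n := p ^ m) (by rw [Subgroup.orderOf_mk]; exact (hGp.symm.pow_left m))
  have hfin := K.pow_mem hGK j
  rw [hj] at hfin
  exact hfin

/-- The focal condition. -/
theorem cI_focal (hS : IsPGroup p S) (hF : F.IsSaturated p)
    (hfoc : (centSys F hT.1).focalSubgroup ≤ Y) {Q : Subgroup Ω} (hQ : Q ≤ Y)
    (hQn : F.IsFullyNormalized Q) :
    (pResidual p ((cI hT hY hYT).autGroup Q)).map ((cI hT hY hYT).autGroup Q).subtype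
      ⊓ autInducedBy S Q ≤ autInducedBy Y Q := by
  set C := centralizerIn S T with hCdef
  set N := centSys F hT.1 with hNdef
  haveI : Finite C := finite_of_le centralizerIn_le
  have hQS := hQn.1
  haveI := finite_of_le hQS
  haveI := finite_mulAut_of_le hQS
  have hCp : IsPGroup p C := hS.to_le centralizerIn_le
  have hTc : F.IsFullyCentralized T := H91.CentSE.isFullyCentralized_closed hT
  have hNs : N.IsSaturated p :=
    isSaturated_centralizer hS hF hTc (H91.isCentralizerSystem_centSys F hT.1)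
  have hQC : Q ≤ C := hQ.trans hYT
  have hNn : N.IsFullyNormalized Q := by
    refine ⟨hQC, fun R hR => ?_⟩
    obtain ⟨f, hf⟩ := isConj_iff.1 hR
    have hfF : IsIso F Q R f := ⟨isMap_N_sub hT hf.isMap, hf.image_eq⟩
    obtain ⟨g, hg, hgi, hgN⟩ := exists_map_to_fullyNormalized hS hF hQn (isConj_symm hfF.isConj)
    have hTR : T ≤ normalizerIn S R := le_normalizerIn_of_centralizes hT.1 hf.target_le
    have hle : normalizerIn C R ≤ normalizerIn S R := fun c hc => ⟨centralizerIn_le hc.1, hc.2⟩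
    rw [(hg.mono hle).isIso.card_eq]
    haveI : Finite (normalizerIn C Q) := finite_of_le (S := C) normalizerIn_le
    refine Subgroup.card_le_of_le fun y hy => ?_
    obtain ⟨c, hc, rfl⟩ := (hg.mono hle).isIso.exists_preimage hy
    refine ⟨FusionSys.mem_centralizerIn.2 ⟨hg.mem_S (hle hc), fun t ht => ?_⟩, (hgN c (hle hc)).2⟩
    obtain ⟨t₀, ht₀, rfl⟩ := (image_closed hT hg hTR).ge ht
    rw [← hg.map_mul (hTR ht₀) (hle hc), ← hg.map_mul (hle hc) (hTR ht₀),
      (FusionSys.mem_centralizerIn.1 hc.1).2 t₀ ht₀]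
  have hrec := receptive_of_isFullyNormalized hCp hNs hNn
  have hsy := isSylowIn_of_fullyAutomized hCp (isFullyAutomized_of_isFullyNormalized hCp hNs hNn)
  rw [autGroup_cI hT hY hYT hQ]
  set A := N.autGroup Q with hA
  have heq : autInducedBy C Q = A ⊓ autInducedBy S Q :=
    hsy.eq_of_le ((isPGroup_autInducedBy hS Q).to_le inf_le_right) inf_le_left
      (le_inf (autInducedBy_le_autGroup N hQC) (autInducedBy_mono centralizerIn_le))
  set B : Subgroup A := pResidual p A with hB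
  have hsyB := H48.isSylowIn_inf_normal hsy.toSylow B
  set R₀ : Sylow p B := hsyB.toSylow with hR₀
  have htop : pResidual p B = ⊤ := by
    refine (Subgroup.map_injective B.subtype_injective) (le_antisymm
      (Subgroup.map_mono le_top) ?_)
    rw [← MonoidHom.range_eq_map, Subgroup.range_subtype]
    exact Fusion.pResidual_le.2 fun g hg => ⟨⟨g, Fusion.mem_pResidual hg⟩,
      Fusion.mem_pResidual (by rwa [Subgroup.orderOf_mk]), rfl⟩
  have hfocal := Fusion.pResidual_sup_commutator_inf R₀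
  rw [htop, top_sup_eq, top_inf_eq, Subgroup.focalSubgroup_def] at hfocal
  have hmem : ∀ z : B, z ∈ (R₀ : Subgroup B) → ((z : A) : MulAut Q) ∈ autInducedBy C Q := by
    intro z hz
    rw [hR₀, hsyB.coe_toSylow, hsy.coe_toSylow] at hz
    exact (Subgroup.mem_inf.1 (Subgroup.mem_subgroupOf.1 hz)).1
  let K : Subgroup B := (autInducedBy Y Q).comap (A.subtype.comp B.subtype)
  have hR₀K : (R₀ : Subgroup B) ≤ K := by
    rw [hfocal, Subgroup.closure_le]
    rintro g ⟨hg, x, hx, u, rfl⟩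
    have hz : u * x * u⁻¹ ∈ (R₀ : Subgroup B) := by
      have := mul_mem (inv_mem hg) hx
      rwa [commutatorElement_def, show (x * u * x⁻¹ * u⁻¹)⁻¹ * x = u * x * u⁻¹ by group] at this
    obtain ⟨w, hwC, hwn, hxw⟩ := mem_autInducedBy.1 (hmem x hx)
    obtain ⟨v, hvC, hvn, hzv⟩ := mem_autInducedBy.1 (hmem _ hz)
    set μ : MulAut Q := ((u : A) : MulAut Q) with hμ
    have hμA : μ ∈ A := (u : A).2
    have hconj : μ * conjAut hwn * μ⁻¹ = conjAut hvn := by
      rw [← hxw, ← hzv]; rfl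
    have hext : InExt C Q (autMap μ) w := inExt_autMap hwC hwn
      (hconj.symm ▸ mem_autInducedBy.2 ⟨v, hvC, hvn, rfl⟩)
    obtain ⟨ψ, hψ, hψe⟩ := receptive_extend hrec (isIso_autMap hQC hμA)
      (N := Subgroup.zpowers w) fun y hy => by
        obtain ⟨i, rfl⟩ := hy
        exact inExt_autMap (C.zpow_mem hwC i) (Subgroup.zpow_mem _ hwn i) (by
          have e : conjAut (Subgroup.zpow_mem _ hwn i) = (conjAut hwn) ^ i :=
            (map_zpow (conjAutHom Q) ⟨w, hwn⟩ i)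
          rw [e, ← conj_zpow, hconj]
          exact zpow_mem (mem_autInducedBy.2 ⟨v, hvC, hvn, rfl⟩) i)
    set w' := ψ w with hw'
    have hw'C : w' ∈ C := hψ.mem_S (Subgroup.mem_sup_left (Subgroup.mem_zpowers w))
    have hw'conj : ∀ q ∈ Q, w' * q * w'⁻¹ = v * q * v⁻¹ := fun q hq => by
      obtain ⟨q₀, hq₀, rfl⟩ : ∃ q₀ ∈ Q, autMap μ q₀ = q :=
        ⟨_, autMap_mem _ hq, autMap_inv_apply μ hq⟩
      have hwq : w * q₀ * w⁻¹ ∈ Q := (Subgroup.mem_normalizer_iff.1 hwn q₀).1 hq₀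
      have e1 := hψ.map_conj (Subgroup.mem_sup_left (Subgroup.mem_zpowers w))
        (Subgroup.mem_sup_right hq₀)
      rw [hψe _ hwq, hψe _ hq₀] at e1
      rw [hw', ← e1]
      have e2 := congrArg (fun α : MulAut Q => autMap α (autMap μ q₀)) hconj
      rw [autMap_conjAut hvn (autMap_mem μ hq₀), autMap_mul _ _ (autMap_mem μ hq₀),
        S5114.inv_autMap_apply μ hq₀, autMap_mul _ _ hq₀, autMap_conjAut hwn hq₀] at e2
      exact e2
    have hw'n : w' ∈ Subgroup.normalizer (Q : Set Ω) := mem_normalizer_of_maps fun q hq => by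
      rw [hw'conj q hq]; exact (Subgroup.mem_normalizer_iff.1 hvn q).1 hq
    have hvw' : conjAut hvn = conjAut hw'n := aut_ext fun q hq => by
      rw [autMap_conjAut hvn hq, autMap_conjAut hw'n hq]; exact (hw'conj q hq).symm
    have hy : w * w'⁻¹ ∈ Y := hfoc (Subgroup.subset_closure
      (show w * w'⁻¹ ∈ {y : Ω | ∃ (P : Subgroup Ω) (φ : P →* Ω) (x : P), φ ∈ N.Hom P ∧
          y = (x : Ω)⁻¹ * φ x} from by
        obtain ⟨φ, hφ, hφe⟩ := hψ.mono (le_sup_left : Subgroup.zpowers w ≤ _)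
        refine ⟨_, φ, ⟨w⁻¹, inv_mem (Subgroup.mem_zpowers w)⟩, hφ, ?_⟩
        rw [hφe]
        show _ = (w⁻¹)⁻¹ * ψ w⁻¹
        rw [inv_inv, hψ.map_inv (Subgroup.mem_sup_left (Subgroup.mem_zpowers w))]))
    show ((⁅x, u⁆ : B) : A).1 ∈ autInducedBy Y Q
    refine mem_autInducedBy.2 ⟨w * w'⁻¹, hy, mul_mem hwn (inv_mem hw'n), ?_⟩
    have e3 : (⁅x, u⁆ : B) = x * (u * x * u⁻¹)⁻¹ := by rw [commutatorElement_def]; group
    rw [e3]
    show ((x : A) : MulAut Q) * (((u * x * u⁻¹ : B) : A) : MulAut Q)⁻¹ = _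
    rw [hxw, hzv, hvw']
    show conjAutHom Q ⟨w, hwn⟩ * (conjAutHom Q ⟨w', hw'n⟩)⁻¹ = _
    rw [← map_inv, ← map_mul]
    rfl
  rintro α ⟨hαB, hαS⟩
  obtain ⟨α', hα', rfl⟩ := hαB
  have h1 : ((α' : A) : MulAut Q) ∈ autInducedBy C Q := heq.ge ⟨α'.2, hαS⟩
  refine hR₀K (show (⟨α', hα'⟩ : B) ∈ (R₀ : Subgroup B) from ?_)
  rw [hR₀, hsyB.coe_toSylow, hsy.coe_toSylow]
  exact Subgroup.mem_subgroupOf.2 ⟨h1, hα'⟩

theorem setup (hS : IsPGroup p S) (hF : F.IsSaturated p)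
    (hfoc : (centSys F hT.1).focalSubgroup ≤ Y) : Gen.Setup p F (cI hT hY hYT) where
  hS := hS
  hF := hF
  hT := hY
  sub := cI_sub hT hY hYT
  tw_mem := fun _ ha _ _ hf => cI_tw hT hY hYT hS hF ha hf
  conj_mem := fun _ hQ _ _ hγ hα => cI_conj hT hY hYT hS hF hQ hγ hα
  ext := fun _ _ hQ hQn hQN hN _ _ hG hGp hx he => cI_ext hT hY hYT hS hF hQ hQn hQN hN hG hGp hx he
  focal := fun _ hQ hQn => cI_focal hT hY hYT hS hF hfoc hQ.1 hQn

end

end Cfsg.Agent.H89.CentE
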