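import Cfsg.Agent.H89.CentE.Basic
import Cfsg.Agent.H91.CentSE.Exists

/-!
A normal subsystem over `Y` centralizing `T`; the centralizer of a normal subsystem.
-/

set_option autoImplicit false
set_option linter.style.haveILetI false
set_option linter.unusedSectionVars false

namespace Cfsg.Agent.H89.CentE

open Cfsg Cfsg.FusionSystem Cfsg.Agent.FusionSys Cfsg.Agent.H91.CentFocal
open Cfsg.Agent.H91 (centSys centralizerHom_iff)
open Cfsg.Agent.H89.ResidualNormal (ExtT extSub maps_top map_cent_top)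
open Cfsg.FusionSystem (centralizerIn normalizerIn)

variable {Ω : Type*} [Group Ω] {S T Y : Subgroup Ω} {F : FusionSystem S} {p : ℕ}
  [Finite S] [Fact p.Prime]

/-- An automorphism of `Y` of order prime to `p` in `C_F(T)` extends to `Y C_S(Y)` trivially modulo `Y`. -/
theorem extT_coprime (hS : IsPGroup p S) (hF : F.IsSaturated p) (hT : F.StronglyClosed T)
    (hY : F.StronglyClosed Y) (hYT : Y ≤ centralizerIn S T)
    (hfoc : (centSys F hT.1).focalSubgroup ≤ Y) {a : MulAut Y} (hap : (orderOf a).Coprime p)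
    (ha : IsMap (cI hT hY hYT) Y (autMap a)) : ExtT F Y a := by
  haveI : Finite Y := finite_of_le hY.1
  haveI : Finite T := finite_of_le hT.1
  haveI := finite_mulAut_of_le hY.1
  obtain ⟨-, -, g, hg, hge, hgT⟩ := (isMap_centSys_iff hT.1).1 ((isMap_cI hT hY hYT).1 ha).2
  haveI : Finite (Y ⊔ T : Subgroup Ω) := finite_of_le hg.le
  have hYn : F.IsFullyNormalized Y := ⟨hY.1, fun R hR => by
    obtain ⟨f, hf⟩ := isConj_iff.1 hR
    rw [Subgroup.eq_of_le_of_card_ge (target_le_of_closed hY le_rfl hf) hf.card_eq.le]⟩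
  have hgm : ∀ y ∈ Y ⊔ T, g y ∈ Y ⊔ T := fun y hy => hg.mapsTo_sup
    (fun z hz => Subgroup.mem_sup_left ((hge z hz).symm ▸ autMap_mem a hz))
    (fun z hz => Subgroup.mem_sup_right ((hgT z hz).symm ▸ hz)) hy
  have hcY : ∀ c ∈ centralizerIn S Y, ∀ y ∈ Y, c * y * c⁻¹ = y := fun c hc y hy => by
    rw [← (FusionSys.mem_centralizerIn.1 hc).2 y hy, mul_inv_cancel_right]
  have hcT : ∀ c ∈ centralizerIn S Y, ∀ t ∈ T, c * t * c⁻¹ ∈ T := fun c hc t ht =>
    conj_mem_closed hT (centralizerIn_le hc) ht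
  have hext : ∀ c ∈ centralizerIn S Y, InExt S (Y ⊔ T) g c := by
    intro c hc
    have hcm : ∀ y ∈ Y ⊔ T, conjMap c y ∈ Y ⊔ T := fun y hy =>
      (isMap_conj F hg.le (centralizerIn_le hc)).mapsTo_sup
        (fun z hz => Subgroup.mem_sup_left (by rw [conjMap_apply, hcY c hc z hz]; exact hz))
        (fun t ht => Subgroup.mem_sup_right (hcT c hc t ht)) hy
    refine ⟨centralizerIn_le hc, mem_normalizer_of_maps hcm, c, centralizerIn_le hc, fun y hy => ?_⟩
    have h1 : IsMap F (Y ⊔ T) (g ∘ conjMap c) :=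
      (isMap_conj F hg.le (centralizerIn_le hc)).comp hg hcm
    have h2 : IsMap F (Y ⊔ T) (conjMap c ∘ g) :=
      hg.comp (isMap_conj F hg.le (centralizerIn_le hc)) hgm
    refine h1.eqOn_sup h2 (fun z hz => ?_) (fun t ht => ?_) hy
    · simp only [Function.comp_apply, conjMap_apply]
      rw [hcY c hc z hz, hge z hz, hcY c hc _ (autMap_mem a hz)]
    · simp only [Function.comp_apply, conjMap_apply]
      rw [hgT t ht, hgT _ (hcT c hc t ht)]
  obtain ⟨b, hb, hbe⟩ := receptive_extend (receptive_of_isFullyCentralized hS hF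
    (fullyCentralized_sup hT hS hF hYT hYn)) (isIso_of_mapsTo hg hgm) hext
  set X := Y ⊔ centralizerIn S Y with hXdef
  have hTC : T ≤ centralizerIn S Y := fun t ht => FusionSys.mem_centralizerIn.2
    ⟨hT.1 ht, fun y hy => ((FusionSys.mem_centralizerIn.1 (hYT hy)).2 t ht).symm⟩
  have hX : X ≤ centralizerIn S Y ⊔ (Y ⊔ T) :=
    sup_le (le_sup_left.trans le_sup_right) le_sup_left
  have hTX : T ≤ X := hTC.trans le_sup_right
  replace hb : IsMap F X b := hb.mono hX
  have hbm : ∀ x ∈ X, b x ∈ X := fun x hx => maps_top hY hb hx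
  obtain ⟨k, n, hn, hbk, hper, hfix⟩ := exists_pPrime_power (p := p) hb hbm
  set B := b^[k] with hBdef
  have hBm : ∀ x ∈ X, B x ∈ X := fun x hx => maps_top hY hbk hx
  have hBY : ∀ y ∈ Y, B y = autMap a y := fun y hy => by
    have h1 : ∀ z ∈ Y, b z = autMap a z := fun z hz =>
      (hbe z (Subgroup.mem_sup_left hz)).trans (hge z hz)
    rw [hfix y (Subgroup.mem_sup_left hy) (orderOf a) hap (by
      rw [autMap_pow a h1 _ hy, pow_orderOf_eq_one, FusionSys.autMap_one hy]), h1 y hy]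
  have hBT : ∀ t ∈ T, B t = t := fun t ht => by
    have h1 : b t = t := (hbe t (Subgroup.mem_sup_right ht)).trans (hgT t ht)
    rw [hfix t (hTX ht) 1 (Nat.coprime_one_left p) h1, h1]
  refine ⟨B, hbk, hBY, ?_⟩
  set W := centralizerIn S T ⊓ centralizerIn S Y with hWdef
  have hWX : W ≤ X := inf_le_right.trans le_sup_right
  have hδW : ∀ c ∈ centralizerIn S Y, c⁻¹ * B c ∈ W := fun c hc => by
    have hBc := map_cent_top hY hbk hc
    refine ⟨FusionSys.mem_centralizerIn.2
      ⟨S.mul_mem (S.inv_mem (centralizerIn_le hc)) (centralizerIn_le hBc), fun t ht => ?_⟩,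
      (centralizerIn S Y).mul_mem ((centralizerIn S Y).inv_mem hc) hBc⟩
    have e := hbk.map_conj (Subgroup.mem_sup_right hc : c ∈ X) (hTX ht)
    rw [hBT _ (hcT c hc t ht), hBT t ht] at e
    calc t * (c⁻¹ * B c) = c⁻¹ * (c * t * c⁻¹) * B c := by group
      _ = _ := by rw [e]; group
  have hBW : ∀ w ∈ W, B w ∈ W := fun w hw => by
    have := W.mul_mem hw (hδW w hw.2)
    rwa [mul_inv_cancel_left] at this
  have hWN : IsMap (centSys F hT.1) W B := (isMap_centSys_iff hT.1).2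
    ⟨inf_le_left, fun w hw => (hBW w hw).1, B,
      hbk.mono (sup_le hWX hTX), fun _ _ => rfl, hBT⟩
  have hWY : ∀ w ∈ W, w⁻¹ * B w ∈ Y := fun w hw => by
    obtain ⟨φ, hφ, hφe⟩ := hWN
    exact hfoc (Subgroup.subset_closure ⟨W, φ, ⟨w, hw⟩, hφ, by rw [hφe]⟩)
  intro c hc
  set δ := c⁻¹ * B c with hδdef
  have hδ := hδW c hc
  have hcomm : ∀ y ∈ Y, y * δ = δ * y := (FusionSys.mem_centralizerIn.1 hδ.2).2
  set z := δ⁻¹ * B δ with hzdef
  have hz : z ∈ Y := hWY δ hδ
  have key : ∀ j : ℕ, ∃ y ∈ Y, B^[j] c = c * δ ^ j * y := by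
    intro j
    induction j with
    | zero => exact ⟨1, Y.one_mem, by simp⟩
    | succ j ih =>
      obtain ⟨y, hy, he⟩ := ih
      have hcX : c ∈ X := Subgroup.mem_sup_right hc
      have hδX : δ ^ j ∈ X := X.pow_mem (hWX hδ) j
      refine ⟨z ^ j * autMap a y, Y.mul_mem (Y.pow_mem hz j) (autMap_mem a hy), ?_⟩
      rw [Function.iterate_succ_apply', he, hbk.map_mul (X.mul_mem hcX hδX) (Subgroup.mem_sup_left hy),
        hbk.map_mul hcX hδX, hbk.map_pow (hWX hδ), hBY y hy, show B δ = δ * z by rw [hzdef, mul_inv_cancel_left],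
        show B c = c * δ by rw [hδdef, mul_inv_cancel_left],
        (show Commute δ z from (hcomm z hz).symm).mul_pow, pow_succ' δ j]
      simp only [mul_assoc]
  obtain ⟨y, hy, he⟩ := key n
  rw [hper c (Subgroup.mem_sup_right hc)] at he
  refine mem_of_pow_mem hS (centralizerIn_le hδ.2) hn ?_
  have h3 : δ ^ n * y = 1 := by
    rw [mul_assoc] at he
    exact mul_left_cancel (a := c) (he.symm.trans (mul_one c).symm)
  rw [eq_inv_of_mul_eq_one_left h3]
  exact Y.inv_mem hy

/-- There is a normal subsystem over `Y` centralizing `T`. -/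
theorem exists_normal (hS : IsPGroup p S) (hF : F.IsSaturated p) (hT : F.StronglyClosed T)
    (hY : F.StronglyClosed Y) (hYT : Y ≤ centralizerIn S T)
    (hfoc : (centSys F hT.1).focalSubgroup ≤ Y) :
    ∃ D : FusionSystem Y, D.IsNormalIn F p ∧ ∀ P, D.Hom P ⊆ F.centralizerHom T P := by
  haveI : Finite Y := finite_of_le hY.1
  haveI := finite_mulAut_of_le hY.1
  have hs := setup hT hY hYT hS hF hfoc
  refine ⟨hs.D0, ⟨hs.isWeaklyNormal_D0, fun α hα => ?_⟩, fun P φ hφ => ?_⟩
  · have hle : hs.bAut Y ≤ extSub hY := by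
      refine sup_le ?_ fun u hu => ?_
      · rw [Subgroup.map_le_iff_le_comap]
        refine Cores.pResidual_le fun γ hγ => ?_
        exact extT_coprime hS hF hT hY hYT hfoc
          (by rwa [Subgroup.coe_subtype, Subgroup.orderOf_coe]) ((mem_autGroup_iff le_rfl).1 γ.2)
      · obtain ⟨t, ht, htn, rfl⟩ := mem_autInducedBy.1 hu
        refine ⟨conjMap t, isMap_conj F (sup_le hY.1 centralizerIn_le) (hY.1 ht),
          fun y hy => (autMap_conjAut htn hy).symm, fun c hc => ?_⟩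
        rw [conjMap_apply, (FusionSys.mem_centralizerIn.1 hc).2 t ht, mul_inv_cancel_right,
          inv_mul_cancel]
        exact Y.one_mem
    obtain ⟨b, hb, hbY, hbc⟩ := hle (hs.autGroup_D0_top hα)
    haveI : Finite (Y ⊔ centralizerIn S Y : Subgroup Ω) := finite_of_le hb.le
    obtain ⟨β, hβ, hβe⟩ := (isIso_of_mapsTo hb fun y hy => maps_top hY hb hy).exists_aut
    refine ⟨β, hβ, fun x => ?_, fun c hc => ?_⟩
    · rw [← autMap_coe β, Subgroup.coe_inclusion, hβe _ (Subgroup.mem_sup_left x.2), hbY _ x.2,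
        autMap_coe]
    · rw [← autMap_coe β, hβe _ c.2]
      exact ⟨hbc _ hc, Subgroup.mul_mem _ (Subgroup.inv_mem _ (FusionSys.mem_centralizerIn.1 hc).2)
        (FusionSys.mem_centralizerIn.1 (map_cent_top hY hb hc)).2⟩
  · have h := ((isMap_cI hT hY hYT).1 (hs.ind_of_inD (hs.isMap_D0.1 (isMap_of_mem hφ)))).2
    exact mem_hom_of_isMap (F := centSys F hT.1) h fun x => (homFun_coe φ x).symm

/-- The centralizer of a normal subsystem in `S`, described by maximality. -/
theorem closed_of_max {E : FusionSystem T} (hS : IsPGroup p S) (hF : F.IsSaturated p)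
    (hE : E.IsNormalIn F p) (hY : Y ≤ centralizerIn S T)
    (hEY : ∀ P : Subgroup Ω, E.Hom P ⊆ F.centralizerHom Y P)
    (hmax : ∀ Y' : Subgroup Ω, Y' ≤ centralizerIn S T →
      (∀ P : Subgroup Ω, E.Hom P ⊆ F.centralizerHom Y' P) → Y' ≤ Y) :
    F.StronglyClosed Y ∧ (centSys F hE.1.2.2.2.1.1).focalSubgroup ≤ Y := by
  have hT := hE.1.2.2.2.1
  have hfix : ∀ Y' : Subgroup Ω, Y' ≤ centralizerIn S T → (∀ P f, IsMap E P f →
      ∃ g, IsMap F (P ⊔ Y') g ∧ (∀ x ∈ P, g x = f x) ∧ ∀ y ∈ Y', g y = y) → Y' ≤ Y := by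
    intro Y' hY' h
    refine hmax Y' hY' fun P φ hφ => ?_
    have hm := isMap_of_mem hφ
    have hcent : ∀ t ∈ T, t ∈ centralizerIn S Y' := fun t ht => FusionSys.mem_centralizerIn.2
      ⟨hT.1 ht, fun y hy => ((FusionSys.mem_centralizerIn.1 (hY' hy)).2 t ht).symm⟩
    obtain ⟨g, hg, hge, hgY⟩ := h P _ hm
    exact mem_hom_of_isMap (F := centSys F (hY'.trans centralizerIn_le))
      ((isMap_centSys_iff (hY'.trans centralizerIn_le)).2
        ⟨fun x hx => hcent x (hm.le hx), fun x hx => hcent _ (hm.mem_S hx), g, hg, hge, hgY⟩)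
      fun x => (homFun_coe φ x).symm
  refine ⟨stronglyClosed_iff.2 ⟨hY.trans centralizerIn_le, fun R f hR hf x hx => ?_⟩, ?_⟩
  · have hgood : H91.CentSE.Good F E x := ⟨hY (hR hx), fun P h hh => by
      obtain ⟨φ, hφ, hφh⟩ := hh
      obtain ⟨-, -, g, hg, hge, hgY⟩ := (centralizerHom_iff F).1 (hEY P hφ)
      exact ⟨g, hg.mono (sup_le_sup_left (Subgroup.zpowers_le.2 (hR hx)) P),
        fun y hy => (hge ⟨y, hy⟩).trans (hφh ⟨y, hy⟩), hgY x (hR hx)⟩⟩
    have h2 := H91.CentSE.Good.closed hS hF hE.1.2.2 hf hgood hx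
    refine hfix _ ((Subgroup.closure_le _).2 fun y (hy : H91.CentSE.Good F E y) => hy.1)
      (fun P f hf => H91.CentSE.exists_fixing_good hS hF hE hf) (Subgroup.subset_closure h2)
  · refine hfix _ ((Subgroup.closure_le _).2 ?_) fun P f hf =>
      exists_fixing hS hF hE (H91.isCentralizerSystem_centSys F hT.1) hf
    rintro _ ⟨A, φ, x, hφ, rfl⟩
    exact (centralizerIn S T).mul_mem (Subgroup.inv_mem _ (((centSys F hT.1).le_of_mem hφ).1 x.2))
      (((centSys F hT.1).le_of_mem hφ).2 x)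

end Cfsg.Agent.H89.CentE
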